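import Groth.Agent.FixAvgLib.Smooth
import Groth.Agent.TransporterLib.SubTop

/-!
Fixed loci of actions of groups of multiplicative type and finite type.
-/

set_option autoImplicit false
set_option backward.isDefEq.respectTransparency false

noncomputable section

universe u

open CategoryTheory CategoryTheory.Limits MonoidalCategory CartesianMonoidalCategory AlgebraicGeometry
open scoped MonObj

namespace Groth.Agent.FixAvg

variable {S : Scheme.{u}} {H X : Over S} [GrpObj H]

/-- The fixed locus is a smooth closed subscheme. -/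
theorem exists_fixedLocus (hH : SGA3x.IsMultTypeFT H) [Smooth X.hom] [IsSeparated X.hom] (a : AlgGrp.Action H X) :
    ∃ (T : Over S) (j : T ⟶ X), IsClosedImmersion j.left ∧ LocallyOfFinitePresentation j.left ∧ Smooth T.hom ∧
      ∀ (Y : Over S) (g : Y ⟶ X), (∃ t : Y ⟶ T, t ≫ j = g) ↔
        ∀ (Y' : Over S) (x : Y' ⟶ Y) (h : Y' ⟶ H), lift h (x ≫ g) ≫ a.act = x ≫ g := by
  have h₁ := Transporter.locally_of_isMultTypeFT hH
  obtain ⟨T, j, hcl, hfp, hT⟩ := exists_eqLocus h₁ a.act (snd H X)
  haveI := hcl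
  haveI := hfp
  have hT' : ∀ (Y : Over S) (g : Y ⟶ X), (∃ t : Y ⟶ T, t ≫ j = g) ↔
      ∀ (Y' : Over S) (x : Y' ⟶ Y) (h : Y' ⟶ H), lift h (x ≫ g) ≫ a.act = x ≫ g := fun Y g => by
    rw [hT Y g]
    simp only [lift_snd]
  haveI : LocallyOfFinitePresentation T.hom := by
    rw [← Over.w j]
    infer_instance
  exact ⟨T, j, hcl, hfp, smooth_fixed h₁ a j hT', hT'⟩

end Groth.Agent.FixAvg
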