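import Groth.Agent.ConjAvgLib.Average

/-!
Pushing points of separated schemes which are constant modulo a square-zero ideal along linear maps.
-/

set_option autoImplicit false
set_option backward.isDefEq.respectTransparency false

noncomputable section

universe u

open CategoryTheory CategoryTheory.Limits MonoidalCategory CartesianMonoidalCategory AlgebraicGeometry CoactBr
open scoped MonObj TensorProduct

namespace Groth.Agent.FixAvg

attribute [local instance] CoactBr.braidedAlgSpecOf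

variable {R : Type u} [CommRing R] {X : Over (Spec (CommRingCat.of R))}

/-- An affine open through which a point with values in `B` factors. -/
structure PChart {B : Type u} [CommRing B] [Algebra R B] (y : sp R B ⟶ X) where
  /-- the coordinate ring -/
  ring : Type u
  [cr : CommRing ring]
  [alg : Algebra R ring]
  /-- the inclusion -/
  hom : sp R ring ⟶ X
  isOpen : IsOpenImmersion hom.left
  /-- the point -/
  one : ring →ₐ[R] B
  pt_one : pt one ≫ hom = y

attribute [instance] PChart.cr PChart.alg PChart.isOpen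

/-- Morphisms to a separated scheme which agree after an injective map of rings agree. -/
theorem ext_of_injective [IsSeparated X.hom] {D D' : Type u} [CommRing D] [Algebra R D] [CommRing D'] [Algebra R D']
    (φ : D →ₐ[R] D') (hφ : Function.Injective φ) {Y Y' : sp R D ⟶ X} (h : pt φ ≫ Y = pt φ ≫ Y') : Y = Y' := by
  refine Over.OverMorphism.ext ?_
  let m : Spec (CommRingCat.of D) ⟶ pullback X.hom X.hom :=
    pullback.lift Y.left Y'.left ((Over.w Y).trans (Over.w Y').symm)
  obtain ⟨I, e, he⟩ := IsClosedImmersion.Spec_iff.1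
    (inferInstance : IsClosedImmersion (pullback.snd (pullback.diagonal X.hom) m))
  let ψ : Spec (CommRingCat.of D') ⟶ Spec (CommRingCat.of D) := (pt φ).left
  have hψ : (ψ ≫ Y.left) ≫ pullback.diagonal X.hom = ψ ≫ m := by
    refine pullback.hom_ext ?_ ?_
    · rw [Category.assoc, pullback.diagonal_fst, Category.comp_id, Category.assoc, pullback.lift_fst]
    · rw [Category.assoc, pullback.diagonal_snd, Category.comp_id, Category.assoc, pullback.lift_snd]
      exact congrArg CommaMorphism.left h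
  have hfac : ψ = (pullback.lift (ψ ≫ Y.left) ψ hψ ≫ e.hom) ≫ Spec.map (CommRingCat.ofHom (Ideal.Quotient.mk I)) := by
    rw [Category.assoc, ← he, pullback.lift_snd]
  have hI : I = ⊥ := by
    refine (Submodule.eq_bot_iff _).2 fun d hd => hφ ?_
    rw [map_zero]
    have h' : CommRingCat.ofHom φ.toRingHom = CommRingCat.ofHom (Ideal.Quotient.mk I) ≫
        Spec.preimage (pullback.lift (ψ ≫ Y.left) ψ hψ ≫ e.hom) := by
      apply Spec.map_injective
      rw [Spec.map_comp, Spec.map_preimage]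
      exact hfac
    have h'' := ConcreteCategory.congr_hom h' d
    rw [CommRingCat.comp_apply, show (CommRingCat.ofHom (Ideal.Quotient.mk I)) d = 0 from
      Ideal.Quotient.eq_zero_iff_mem.2 hd, map_zero] at h''
    exact h''
  haveI : IsIso (Spec.map (CommRingCat.ofHom (Ideal.Quotient.mk I))) := by
    have : IsIso (CommRingCat.ofHom (Ideal.Quotient.mk I)) := by
      rw [ConcreteCategory.isIso_iff_bijective]
      refine ⟨fun a b hab => ?_, Ideal.Quotient.mk_surjective⟩
      have := Ideal.Quotient.eq.1 hab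
      rw [hI, Submodule.mem_bot] at this
      exact sub_eq_zero.1 this
    infer_instance
  haveI : IsIso (pullback.snd (pullback.diagonal X.hom) m) := by rw [he]; infer_instance
  have hm : (inv (pullback.snd (pullback.diagonal X.hom) m) ≫ pullback.fst (pullback.diagonal X.hom) m) ≫
      pullback.diagonal X.hom = m := by
    rw [Category.assoc, pullback.condition, IsIso.inv_hom_id_assoc]
  have h1 := congrArg (· ≫ pullback.fst X.hom X.hom) hm
  have h2 := congrArg (· ≫ pullback.snd X.hom X.hom) hm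
  simp only [Category.assoc, pullback.diagonal_fst, pullback.diagonal_snd, Category.comp_id, m, pullback.lift_fst,
    pullback.lift_snd] at h1 h2
  exact h1.symm.trans h2

variable (J : Ideal R) (B : Type u) [CommRing B] [Algebra R B] (B' : Type u) [CommRing B'] [Algebra R B']
  [Algebra B B'] [IsScalarTower R B B']

/-- Elements which are constant modulo the ideal. -/
def near : Subalgebra R B' where
  carrier := {a | ∃ b : B, a - algebraMap B B' b ∈ J.map (algebraMap R B')}
  mul_mem' {v w} hv hw := by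
    obtain ⟨b, hb⟩ := hv
    obtain ⟨c, hc⟩ := hw
    refine ⟨b * c, ?_⟩
    have : v * w - algebraMap B B' (b * c) =
        (v - algebraMap B B' b) * w + algebraMap B B' b * (w - algebraMap B B' c) := by
      rw [map_mul]; ring
    rw [this]
    exact add_mem (Ideal.mul_mem_right _ _ hb) (Ideal.mul_mem_left _ _ hc)
  add_mem' {v w} hv hw := by
    obtain ⟨b, hb⟩ := hv
    obtain ⟨c, hc⟩ := hw
    refine ⟨b + c, ?_⟩
    have : v + w - algebraMap B B' (b + c) = (v - algebraMap B B' b) + (w - algebraMap B B' c) := by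
      rw [map_add]; ring
    rw [this]
    exact add_mem hb hc
  algebraMap_mem' r := ⟨algebraMap R B r, by simp [← IsScalarTower.algebraMap_apply]⟩

/-- The constants. -/
def cst : B →ₐ[R] near J B B' :=
  (IsScalarTower.toAlgHom R B B').codRestrict (near J B B') fun b => ⟨b, by simp⟩

variable {J B B'} {B'' : Type u} [CommRing B''] [Algebra R B''] [Algebra B B''] [IsScalarTower R B B'']

/-- The ring map induced by a linear map. -/
def q (hJ : J ^ 2 = ⊥) (ℓ : B' →ₗ[B] B'') (h1 : ℓ 1 = 1) : near J B B' →ₐ[R] B'' :=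
  AlgHom.ofLinearMap ((ℓ.restrictScalars R).comp (near J B B').val.toLinearMap) (by
    show ℓ ((near J B B').val 1) = 1
    rw [map_one, h1]) (fun v w => by
    show ℓ (v.1 * w.1) = ℓ v.1 * ℓ w.1
    obtain ⟨b, hb⟩ := v.2
    obtain ⟨c, hc⟩ := w.2
    obtain ⟨n, hn, hv⟩ : ∃ n ∈ J.map (algebraMap R B'), v.1 = b • (1 : B') + n :=
      ⟨_, hb, by rw [← Algebra.algebraMap_eq_smul_one]; ring⟩
    obtain ⟨m, hm, hw⟩ : ∃ m ∈ J.map (algebraMap R B'), w.1 = c • (1 : B') + m :=
      ⟨_, hc, by rw [← Algebra.algebraMap_eq_smul_one]; ring⟩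
    rw [hv, hw]
    simp only [mul_add, add_mul, smul_mul_assoc, mul_smul_comm, one_mul, mul_one, map_add, map_smul, h1,
      ConjAvg.mul_eq_zero' hJ hn hm, ConjAvg.mul_eq_zero' hJ (ConjAvg.map_mem ℓ hn) (ConjAvg.map_mem ℓ hm), map_zero,
      smul_add, smul_smul])

/-- The pushforward along a linear map of a point which is constant modulo the ideal. -/
def IsPush (J : Ideal R) (hJ : J ^ 2 = ⊥) (ℓ : B' →ₗ[B] B'') (h1 : ℓ 1 = 1) (x : sp R B' ⟶ X)
    (z : sp R B'' ⟶ X) : Prop :=
  ∃ Y : sp R (near J B B') ⟶ X, pt (near J B B').val ≫ Y = x ∧ pt (q hJ ℓ h1) ≫ Y = z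

variable {hJ : J ^ 2 = ⊥} {ℓ : B' →ₗ[B] B''} {h1 : ℓ 1 = 1}

theorem exists_isPush {y : sp R B ⟶ X} (V : PChart y) (x : sp R B' ⟶ X)
    (hx : pt (Ideal.Quotient.mkₐ R (J.map (algebraMap R B'))) ≫ x =
      pt (Ideal.Quotient.mkₐ R (J.map (algebraMap R B'))) ≫ pt (IsScalarTower.toAlgHom R B B') ≫ y) :
    ∃ z, IsPush J hJ ℓ h1 x z ∧ pt (Ideal.Quotient.mkₐ R (J.map (algebraMap R B''))) ≫ z =
      pt (Ideal.Quotient.mkₐ R (J.map (algebraMap R B''))) ≫ pt (IsScalarTower.toAlgHom R B B'') ≫ y := by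
  let N : Ideal B' := J.map (algebraMap R B')
  let π : B' →ₐ[R] B' ⧸ N := Ideal.Quotient.mkₐ R N
  have h1' : pt (((π.comp (IsScalarTower.toAlgHom R B B')).comp V.one)) ≫ V.hom =
      pt π ≫ pt (IsScalarTower.toAlgHom R B B') ≫ y := by
    simp only [pt_comp, Category.assoc, V.pt_one]
  have hsub : Set.range x.left ⊆ Set.range V.hom.left := by
    rintro _ ⟨t, rfl⟩
    have ht : t ∈ Set.range (PrimeSpectrum.comap π.toRingHom) := by
      refine (Set.ext_iff.1 (range_comap_of_surjective _ π.toRingHom Ideal.Quotient.mk_surjective) t).2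
        ((PrimeSpectrum.mem_zeroLocus _ _).2 ?_)
      intro a ha
      have ha' : a ∈ N := Ideal.Quotient.eq_zero_iff_mem.1 ha
      exact t.isPrime.mem_of_pow_mem 2 (by rw [pow_two, ConjAvg.mul_eq_zero' hJ ha' ha']; exact zero_mem _)
    obtain ⟨t', ht'⟩ := ht
    have h2 : x.left t = (pt π ≫ x).left t' := by
      rw [← ht']
      rfl
    rw [h2, hx, ← h1']
    exact ⟨_, rfl⟩
  let l := IsOpenImmersion.lift V.hom.left x.left hsub
  have hl : l ≫ V.hom.left = x.left := IsOpenImmersion.lift_fac _ _ _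
  let yy : sp R B' ⟶ sp R V.ring := Over.homMk l (by rw [← Over.w V.hom, ← Category.assoc, hl, Over.w])
  obtain ⟨L, hL⟩ := DiagRep.exists_pt yy
  have hLx : pt L ≫ V.hom = x := by
    rw [← hL]
    exact Over.OverMorphism.ext hl
  haveI : Mono V.hom := Over.mono_of_mono_left _
  have hL' : π.comp L = (π.comp (IsScalarTower.toAlgHom R B B')).comp V.one :=
    pt_injective ((cancel_mono V.hom).1 (by rw [pt_comp, Category.assoc, hLx, h1', hx]))
  let Y : V.ring →ₐ[R] near J B B' := L.codRestrict (near J B B') fun r => ⟨V.one r, by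
    rw [← Ideal.Quotient.eq]
    exact DFunLike.congr_fun hL' r⟩
  refine ⟨_, ⟨pt Y ≫ V.hom, ?_, rfl⟩, ?_⟩
  · rw [← Category.assoc, ← pt_comp, show (near J B B').val.comp Y = L from AlgHom.ext fun b => rfl, hLx]
  · conv_rhs => rw [← V.pt_one]
    simp only [← Category.assoc, ← pt_comp]
    refine congrArg (fun f => pt f ≫ V.hom) (AlgHom.ext fun r => Ideal.Quotient.eq.2 ?_)
    show ℓ (L r) - algebraMap B B'' (V.one r) ∈ _
    have : ℓ (L r) - algebraMap B B'' (V.one r) = ℓ (L r - algebraMap B B' (V.one r)) := by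
      rw [map_sub, Algebra.algebraMap_eq_smul_one (A := B'), map_smul, h1, Algebra.algebraMap_eq_smul_one]
    rw [this]
    exact ConjAvg.map_mem ℓ (Ideal.Quotient.eq.1 (DFunLike.congr_fun hL' r))

theorem IsPush.unique [IsSeparated X.hom] {x : sp R B' ⟶ X} {z z' : sp R B'' ⟶ X} (h : IsPush J hJ ℓ h1 x z)
    (h' : IsPush J hJ ℓ h1 x z') : z = z' := by
  obtain ⟨Y, hY, rfl⟩ := h
  obtain ⟨Y', hY', rfl⟩ := h'
  rw [ext_of_injective (near J B B').val Subtype.val_injective (hY.trans hY'.symm)]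

/-- Pushforwards commute with a family of morphisms parametrised by the base. -/
theorem IsPush.act {X₁ X₂ : Over (Spec (CommRingCat.of R))} (F : X₁ ⊗ X ⟶ X₂) (c : sp R B ⟶ X₁) {x : sp R B' ⟶ X}
    {z : sp R B'' ⟶ X} (h : IsPush J hJ ℓ h1 x z) :
    IsPush J hJ ℓ h1 (lift (pt (IsScalarTower.toAlgHom R B B') ≫ c) x ≫ F)
      (lift (pt (IsScalarTower.toAlgHom R B B'') ≫ c) z ≫ F) := by
  obtain ⟨Y, hY, rfl⟩ := h
  refine ⟨lift (pt (cst J B B') ≫ c) Y ≫ F, ?_, ?_⟩
  · rw [comp_lift_assoc, hY, ← Category.assoc, ← pt_comp,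
      show (near J B B').val.comp (cst J B B') = IsScalarTower.toAlgHom R B B' from rfl]
  · rw [comp_lift_assoc, ← Category.assoc, ← pt_comp,
      show (q hJ ℓ h1).comp (cst J B B') = IsScalarTower.toAlgHom R B B'' from AlgHom.ext fun b => by
        show ℓ (algebraMap B B' b) = algebraMap B B'' b
        rw [Algebra.algebraMap_eq_smul_one, map_smul, h1, Algebra.algebraMap_eq_smul_one]]

theorem IsPush.congr_cst [IsSeparated X.hom] {y : sp R B ⟶ X} (V : PChart y) {x : sp R B' ⟶ X} {z : sp R B'' ⟶ X}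
    (h : IsPush J hJ ℓ h1 x z)
    (hx : pt (Ideal.Quotient.mkₐ R (J.map (algebraMap R B'))) ≫ x =
      pt (Ideal.Quotient.mkₐ R (J.map (algebraMap R B'))) ≫ pt (IsScalarTower.toAlgHom R B B') ≫ y) :
    pt (Ideal.Quotient.mkₐ R (J.map (algebraMap R B''))) ≫ z =
      pt (Ideal.Quotient.mkₐ R (J.map (algebraMap R B''))) ≫ pt (IsScalarTower.toAlgHom R B B'') ≫ y := by
  obtain ⟨z₀, hz₀, hc⟩ := exists_isPush (hJ := hJ) (ℓ := ℓ) (h1 := h1) V x hx
  rw [h.unique hz₀, hc]

/-- Pushforwards are natural. -/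
theorem IsPush.natural {x : sp R B' ⟶ X} {z : sp R B'' ⟶ X} (h : IsPush J hJ ℓ h1 x z) {C : Type u} [CommRing C]
    [Algebra R C] {C' : Type u} [CommRing C'] [Algebra R C'] [Algebra C C'] [IsScalarTower R C C'] {C'' : Type u}
    [CommRing C''] [Algebra R C''] [Algebra C C''] [IsScalarTower R C C''] (β : B →ₐ[R] C) (β' : B' →ₐ[R] C')
    (β'' : B'' →ₐ[R] C'') (hβ : ∀ b, β' (algebraMap B B' b) = algebraMap C C' (β b)) (ℓ' : C' →ₗ[C] C'')
    (h1' : ℓ' 1 = 1) (hℓ : ∀ a, β'' (ℓ a) = ℓ' (β' a)) :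
    IsPush J hJ ℓ' h1' (pt β' ≫ x) (pt β'' ≫ z) := by
  obtain ⟨Y, hY, rfl⟩ := h
  let φ : near J B B' →ₐ[R] near J C C' := (β'.comp (near J B B').val).codRestrict (near J C C') fun v => by
    obtain ⟨b, hb⟩ := v.2
    refine ⟨β b, ?_⟩
    show β' v.1 - algebraMap C C' (β b) ∈ _
    rw [← hβ, ← map_sub]
    have := Ideal.mem_map_of_mem β'.toRingHom hb
    rwa [Ideal.map_map, AlgHom.toRingHom_eq_coe, β'.comp_algebraMap] at this
  refine ⟨pt φ ≫ Y, ?_, ?_⟩
  · rw [← Category.assoc, ← pt_comp, ← hY, ← Category.assoc, ← pt_comp]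
    rfl
  · rw [← Category.assoc, ← pt_comp, ← Category.assoc, ← pt_comp,
      show (q hJ ℓ' h1').comp φ = β''.comp (q hJ ℓ h1) from AlgHom.ext fun v => (hℓ v.1).symm]

end Groth.Agent.FixAvg
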