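import Groth.Agent.ConjAvgLib.Main
import Groth.Agent.FixAvgLib.Push
import Groth.Prelude.Def_AlgGrp

/-!
Averaging the orbit of a point of a separated scheme which is fixed modulo a square-zero ideal.
-/

set_option autoImplicit false
set_option backward.isDefEq.respectTransparency false

noncomputable section

universe u

open CategoryTheory CategoryTheory.Limits MonoidalCategory CartesianMonoidalCategory AlgebraicGeometry CoactBr
open scoped MonObj TensorProduct

namespace Groth.Agent.FixAvg

open Groth.Agent.FreeAct (DA)
open Groth.Agent.ConjAvg (int int_one int_single pts pts_comp pts_mul pts_injective pts_surjective pt_id' AgreeMod)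

attribute [local instance] CoactBr.braidedAlgSpecOf

variable {R : Type u} [CommRing R] {X H : Over (Spec (CommRingCat.of R))} [GrpObj H]

/-- Acting by a product. -/
theorem act_mul (a : AlgGrp.Action H X) {Y : Over (Spec (CommRingCat.of R))} (g g' : Y ⟶ H) (x : Y ⟶ X) :
    lift (g * g') x ≫ a.act = lift g (lift g' x ≫ a.act) ≫ a.act := by
  have h := congrArg (lift (lift g g') x ≫ ·) a.mul_act
  rw [lift_whiskerRight_assoc, lift_lift_associator_hom_assoc, lift_whiskerLeft_assoc] at h
  exact h

section Pts

variable {B : Type u} [CommRing B] [Algebra R B] {M : Type} [AddCommGroup M]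
  (spl : sp B (DA B M) ≅ Red.bc (sp R B).hom H) (σ : H ⟶ X)

/-- The averaged value of a morphism. -/
def IsAvg (J : Ideal R) (hJ : J ^ 2 = ⊥) (z : sp R B ⟶ X) : Prop :=
  IsPush (B := B) J hJ (int B M) (int_one B)
    (pts spl (MonoidAlgebra B (Multiplicative M)) (MonoidAlgebra.of B _) ≫ σ) z

variable {spl σ} {J : Ideal R} {hJ : J ^ 2 = ⊥}

/-- The averaged value over an algebra. -/
theorem IsAvg.push {z : sp R B ⟶ X} (h : IsAvg spl σ J hJ z) (C : Type u) [CommRing C] [Algebra R C] [Algebra B C]
    [IsScalarTower R B C] :
    IsPush (B := C) J hJ (int C M) (int_one C)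
      (pts spl (MonoidAlgebra C (Multiplicative M)) (MonoidAlgebra.of C _) ≫ σ)
      (pt (IsScalarTower.toAlgHom R B C) ≫ z) := by
  classical
  let L : MonoidAlgebra B (Multiplicative M) →ₐ[B] MonoidAlgebra C (Multiplicative M) :=
    MonoidAlgebra.lift B _ (Multiplicative M) (MonoidAlgebra.of C _)
  have hL : ∀ m, L (MonoidAlgebra.single m 1) = MonoidAlgebra.single m 1 := fun m => by simp [L]
  have hlin : ∀ a, algebraMap B C (int B M a) = int C M (L a) := fun a =>
    DFunLike.congr_fun (f := (Algebra.linearMap B C).comp (int B M))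
      (g := ((int C M).restrictScalars B).comp L.toLinearMap)
      ((MonoidAlgebra.basis (Multiplicative M) B).ext fun m => by
        simp only [LinearMap.comp_apply, MonoidAlgebra.basis_apply, int_single, LinearMap.restrictScalars_apply,
          AlgHom.toLinearMap_apply, hL, Algebra.linearMap_apply, apply_ite, map_one, map_zero]
        split_ifs <;> simp) a
  have h2 := IsPush.natural (B := B) h (IsScalarTower.toAlgHom R B C) (L.restrictScalars R)
    (IsScalarTower.toAlgHom R B C) (fun b => by
      show L (algebraMap B _ b) = algebraMap C _ (algebraMap B C b)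
      rw [L.commutes, ← IsScalarTower.algebraMap_apply]) (int C M) (int_one C) hlin
  rw [← Category.assoc, pts_comp] at h2
  convert h2 using 4
  exact MonoidHom.ext fun m => (hL m).symm

/-- The averaged value of a splitting gives the one of a splitting over an algebra. -/
theorem isAvg_bc [IsMonHom spl.hom] {z : sp R B ⟶ X} (h : IsAvg spl σ J hJ z) (C : Type u) [CommRing C] [Algebra R C]
    [Algebra B C] [IsScalarTower R B C] {M' : Type} [AddCommGroup M']
    (w' : sp C (DA C M') ≅ Red.bc (sp R C).hom H) [IsMonHom w'.hom] :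
    IsAvg w' σ J hJ (pt (IsScalarTower.toAlgHom R B C) ≫ z) := by
  let A := MonoidAlgebra C (Multiplicative M)
  let A' := MonoidAlgebra C (Multiplicative M')
  obtain ⟨χ, hχ⟩ := pts_surjective spl A' (pts w' A' (MonoidAlgebra.of C _))
  obtain ⟨χ', hχ'⟩ := pts_surjective w' A (pts spl A (MonoidAlgebra.of C _))
  let L : A →ₐ[C] A' := MonoidAlgebra.lift C A' (Multiplicative M) χ
  let L' : A' →ₐ[C] A := MonoidAlgebra.lift C A (Multiplicative M') χ'
  have hL : L.toRingHom.toMonoidHom.comp (MonoidAlgebra.of C _) = χ := MonoidHom.ext fun m => by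
    show MonoidAlgebra.lift C A' (Multiplicative M) χ (MonoidAlgebra.single m 1) = χ m
    exact (MonoidAlgebra.lift_single _ _ _).trans (one_smul _ _)
  have hL' : L'.toRingHom.toMonoidHom.comp (MonoidAlgebra.of C _) = χ' := MonoidHom.ext fun m => by
    show MonoidAlgebra.lift C A (Multiplicative M') χ' (MonoidAlgebra.single m 1) = χ' m
    exact (MonoidAlgebra.lift_single _ _ _).trans (one_smul _ _)
  have hinv : ∀ a, L' (L a) = a := fun a => by
    have h1 : L'.toRingHom.toMonoidHom.comp χ = MonoidAlgebra.of C _ := pts_injective spl A (by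
      have h2 := pts_comp spl (L'.restrictScalars B) χ
      rw [← hχ] at h2
      have h3 := pts_comp w' L' (MonoidAlgebra.of C _)
      rw [hL', ← hχ'] at h3
      exact h2.symm.trans h3)
    refine DFunLike.congr_fun (f := L'.comp L) (g := AlgHom.id C A)
      (AlgHom.toLinearMap_injective ((MonoidAlgebra.basis (Multiplicative M) C).ext fun m => ?_)) a
    rw [MonoidAlgebra.basis_apply]
    show L' (L (MonoidAlgebra.single m 1)) = MonoidAlgebra.single m 1
    rw [show L (MonoidAlgebra.single m 1) = χ m from DFunLike.congr_fun hL m]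
    exact DFunLike.congr_fun h1 m
  have hmul : ∀ (D : Type u) [CommRing D] [Algebra C D] (ψ ψ' : Multiplicative M' →* D) (m : Multiplicative M),
      MonoidAlgebra.lift C D (Multiplicative M') (ψ * ψ') (L (MonoidAlgebra.single m 1)) =
        MonoidAlgebra.lift C D (Multiplicative M') ψ (L (MonoidAlgebra.single m 1)) *
          MonoidAlgebra.lift C D (Multiplicative M') ψ' (L (MonoidAlgebra.single m 1)) := by
    intro D _ _ ψ ψ' m
    letI : Algebra B D := ((algebraMap C D).comp (algebraMap B C)).toAlgebra
    letI : Algebra R D := ((algebraMap C D).comp (algebraMap R C)).toAlgebra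
    haveI : IsScalarTower B C D := IsScalarTower.of_algebraMap_eq fun b => rfl
    haveI : IsScalarTower R C D := IsScalarTower.of_algebraMap_eq fun b => rfl
    haveI : IsScalarTower R B D := IsScalarTower.of_algebraMap_eq fun b => by
      show algebraMap C D (algebraMap R C b) = algebraMap C D (algebraMap B C (algebraMap R B b))
      rw [← IsScalarTower.algebraMap_apply R B C]
    have key : ∀ φ : Multiplicative M' →* D,
        pts spl D ((MonoidAlgebra.lift C D (Multiplicative M') φ).toRingHom.toMonoidHom.comp χ) = pts w' D φ := by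
      intro φ
      have h2 := pts_comp spl ((MonoidAlgebra.lift C D (Multiplicative M') φ).restrictScalars B) χ
      rw [← hχ] at h2
      refine h2.symm.trans ((pts_comp w' (MonoidAlgebra.lift C D (Multiplicative M') φ) _).trans
        (congrArg (pts w' D) (MonoidHom.ext fun j => ?_)))
      show MonoidAlgebra.lift C D (Multiplicative M') φ (MonoidAlgebra.single j 1) = φ j
      exact (MonoidAlgebra.lift_single _ _ _).trans (one_smul _ _)
    rw [show L (MonoidAlgebra.single m 1) = χ m from DFunLike.congr_fun hL m]
    exact DFunLike.congr_fun (pts_injective spl D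
      (show pts spl D ((MonoidAlgebra.lift C D (Multiplicative M') (ψ * ψ')).toRingHom.toMonoidHom.comp χ) =
        pts spl D (((MonoidAlgebra.lift C D (Multiplicative M') ψ).toRingHom.toMonoidHom.comp χ) *
          (MonoidAlgebra.lift C D (Multiplicative M') ψ').toRingHom.toMonoidHom.comp χ) by
        rw [pts_mul spl, key, key, key, pts_mul])) m
  have h1 := IsPush.natural (B := C) (h.push C) (AlgHom.id R C) (L.restrictScalars R) (AlgHom.id R C)
    (fun b => L.commutes b) (int C M') (int_one C)
    (fun a => (ConjAvg.Fam.int_comp_eq L (Function.LeftInverse.injective hinv) hmul a).symm)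
  have h2 := pts_comp spl (L.restrictScalars B) (MonoidAlgebra.of C (Multiplicative M))
  have h3 : pt (L.restrictScalars R) ≫ pts spl A (MonoidAlgebra.of C _) = pts w' A' (MonoidAlgebra.of C _) :=
    h2.trans ((congrArg (pts spl A') hL).trans hχ.symm)
  rw [← Category.assoc, h3, pt_id', Category.id_comp] at h1
  exact h1

/-- The averaged orbit is fixed. -/
theorem IsAvg.fixed [IsMonHom spl.hom] [IsSeparated X.hom] (a : AlgGrp.Action H X) (y : 𝟙_ _ ⟶ X)
    {z : sp R B ⟶ X} (h : IsAvg spl (lift (𝟙 H) (toUnit H ≫ y) ≫ a.act) J hJ z) (C : Type u) [CommRing C]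
    [Algebra R C] [Algebra B C] [IsScalarTower R B C] (χ : Multiplicative M →* C) :
    lift (pts spl C χ) (pt (IsScalarTower.toAlgHom R B C) ≫ z) ≫ a.act = pt (IsScalarTower.toAlgHom R B C) ≫ z := by
  classical
  let g := pt (IsScalarTower.toAlgHom R B C) ≫ z
  let A := MonoidAlgebra C (Multiplicative M)
  let ω : Multiplicative M →* A := MonoidAlgebra.of C _
  let cst : C →ₐ[B] A := IsScalarTower.toAlgHom B C A
  let χ' : Multiplicative M →* A := cst.toRingHom.toMonoidHom.comp χ
  let τ : A →ₐ[C] A := MonoidAlgebra.lift C A (Multiplicative M) (χ' * ω)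
  have hg : IsPush (B := C) J hJ (int C M) (int_one C) ((pts spl A ω ≫ lift (𝟙 H) (toUnit H ≫ y) ≫ a.act)) g := h.push C
  have hτ : ∀ a, int C M (τ a) = int C M a := fun a =>
    DFunLike.congr_fun (f := (int C M).comp τ.toLinearMap) (g := int C M)
      ((MonoidAlgebra.basis (Multiplicative M) C).ext fun m => by
        have e : τ (MonoidAlgebra.single m 1) = MonoidAlgebra.single m (χ m) := by
          show MonoidAlgebra.lift C A (Multiplicative M) (χ' * ω) (MonoidAlgebra.single m 1) = _
          rw [MonoidAlgebra.lift_single, one_smul]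
          show algebraMap C A (χ m) * MonoidAlgebra.single m 1 = _
          rw [← Algebra.smul_def, MonoidAlgebra.smul_single, smul_eq_mul, mul_one]
        rw [MonoidAlgebra.basis_apply]
        show int C M (τ (MonoidAlgebra.single m 1)) = int C M (MonoidAlgebra.single m 1)
        rw [e, int_single, int_single]
        split_ifs with hm
        · rw [hm, map_one]
        · rfl) a
  let σ' : H ⟶ X := lift (𝟙 H) (toUnit H ≫ y) ≫ a.act
  have hσ : ∀ {Y : Over (Spec (CommRingCat.of R))} (b : Y ⟶ H), b ≫ σ' = lift b (toUnit Y ≫ y) ≫ a.act := fun b => by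
    simp only [σ', comp_lift_assoc, Category.comp_id]
    rw [← Category.assoc b, toUnit_unique (b ≫ toUnit H) (toUnit _)]
  have e₁ : pt (τ.restrictScalars R) ≫ pts spl A ω ≫ σ' = pts spl A (χ' * ω) ≫ σ' := by
    have h3 := pts_comp spl (τ.restrictScalars B) ω
    rw [← Category.assoc]
    refine congrArg (· ≫ σ') (h3.trans (congrArg _ (MonoidHom.ext fun m => ?_)))
    show MonoidAlgebra.lift C A (Multiplicative M) (χ' * ω) (MonoidAlgebra.single m 1) = (χ' * ω) m
    exact (MonoidAlgebra.lift_single _ _ _).trans (one_smul _ _)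
  -- the translated value has the same average
  have h1 : IsPush (B := C) J hJ (int C M) (int_one C) (pts spl A (χ' * ω) ≫ σ') g := by
    have := IsPush.natural (B := C) hg (AlgHom.id R C) (τ.restrictScalars R) (AlgHom.id R C)
      (fun b => τ.commutes b) (int C M) (int_one C) (fun a => (hτ a).symm)
    rwa [e₁, pt_id', Category.id_comp] at this
  have hc : pt (cst.restrictScalars R) ≫ pts spl C χ = pts spl A χ' := pts_comp spl cst χ
  have h2 : IsPush (B := C) J hJ (int C M) (int_one C) (pts spl A (χ' * ω) ≫ σ')
      (lift (pts spl C χ) g ≫ a.act) := by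
    have h3 := hg.act a.act (pts spl C χ)
    rw [show pt (IsScalarTower.toAlgHom R C C) ≫ pts spl C χ = pts spl C χ by
      rw [show IsScalarTower.toAlgHom R C C = AlgHom.id R C from rfl, pt_id', Category.id_comp],
      show pt (IsScalarTower.toAlgHom R C A) ≫ pts spl C χ = pts spl A χ' from hc] at h3
    rw [hσ, pts_mul, act_mul, ← hσ]
    exact h3
  exact h2.unique h1

end Pts

end Groth.Agent.FixAvg
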