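import Groth.Agent.TransporterLib.Main
import Groth.Prelude.Def_AlgGrp
import Groth.Agent.MultEqLib.Piece
import Groth.Agent.TrivLocusLib.Global
import Groth.Agent.MultLiftLib.Eq

/-!
The locus where two morphisms out of a product with a group of multiplicative type agree.
-/

set_option autoImplicit false
set_option backward.isDefEq.respectTransparency false

noncomputable section

universe u

open CategoryTheory CategoryTheory.Limits MonoidalCategory CartesianMonoidalCategory AlgebraicGeometry CoactBr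
open scoped MonObj

namespace Groth.Agent.FixAvg

open Groth.Agent.Transporter

open Groth.Agent.FreeAct (DA chr)
open Groth.Agent.MonoLocus (hpt hpt_surjective mp mp_single coeff_mp)

attribute [local instance] CoactBr.braidedAlgSpecOf

variable {S : Scheme.{u}} {H X Z : Over S} (α β : H ⊗ X ⟶ Z)

/-- The two morphisms agree over the test scheme. -/
def Agrees {T : Scheme.{u}} (t : T ⟶ X.left) : Prop :=
  ∀ (Y : Over S) (g : Y ⟶ X) (h : Y ⟶ H), (∃ x : Y.left ⟶ T, x ≫ t = g.left) → lift h g ≫ α = lift h g ≫ β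

/-- The condition of agreement. -/
def pred : LocPred X.left where
  P t := Agrees α β t
  comp := fun {_ _} f {_} ht Y g h hx => by
    obtain ⟨x, hx⟩ := hx
    exact ht Y g h ⟨x ≫ f, (Category.assoc _ _ _).trans hx⟩
  of_family := fun {T t I T'} q hflat hsurj h Y g y hx => by
    obtain ⟨x, hx⟩ := hx
    let P : I → Scheme.{u} := fun i => pullback x (q i)
    let π : (∐ P) ⟶ Y.left := Sigma.desc fun i => pullback.fst x (q i)
    haveI : Flat π := IsZariskiLocalAtSource.sigmaDesc fun i => by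
      haveI := hflat i
      infer_instance
    haveI : Surjective π := ⟨fun a => by
      obtain ⟨i, b, hb⟩ := hsurj (x a)
      obtain ⟨w, hw, -⟩ := Scheme.Pullback.exists_preimage_pullback (f := x) (g := q i) a b hb.symm
      refine ⟨Sigma.ι P i w, ?_⟩
      rw [← Scheme.Hom.comp_apply, Sigma.ι_desc]
      exact hw⟩
    haveI : Epi π := Flat.epi_of_flat_of_surjective π
    refine Over.OverMorphism.ext ((cancel_epi π).1 (Sigma.hom_ext _ _ fun i => ?_))
    let Y' : Over S := Over.mk (pullback.fst x (q i) ≫ Y.hom)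
    let e : Y' ⟶ Y := Over.homMk (pullback.fst _ _)
    have h1 := h i Y' (e ≫ g) (e ≫ y) ⟨pullback.snd _ _, by
      show pullback.snd x (q i) ≫ q i ≫ t = pullback.fst x (q i) ≫ g.left
      rw [← pullback.condition_assoc, hx]⟩
    rw [← comp_lift_assoc, ← comp_lift_assoc] at h1
    rw [Sigma.ι_desc_assoc, Sigma.ι_desc_assoc]
    exact congrArg CommaMorphism.left h1

/-- The locus of agreement over a piece on which the group is split. -/
theorem exists_ideal_piece [GrpObj H] [IsSeparated Z.hom] [LocallyOfFiniteType Z.hom] {R : Type u} [CommRing R]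
    (p : Spec (CommRingCat.of R) ⟶ S) {M : Type} [AddCommGroup M] (w : sp R (DA R M) ≅ Red.bc p H)
    (v : Spec (CommRingCat.of R) ⟶ X.left) (hv : v ≫ X.hom = p) :
    ∃ I : Ideal R, I.FG ∧ HasIdeal (pred α β) (A := CommRingCat.of R) v I := by
  classical
  let adj := Over.mapPullbackAdj p
  let Y₀ := (Over.map p).obj (sp R (DA R M))
  let g₀ : Y₀ ⟶ X := Over.homMk ((sp R (DA R M)).hom ≫ v) (by
    show ((sp R (DA R M)).hom ≫ v) ≫ X.hom = (sp R (DA R M)).hom ≫ p
    rw [Category.assoc, hv])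
  let h₀ : Y₀ ⟶ H := (adj.homEquiv (sp R (DA R M)) H).symm w.hom
  let a : Y₀ ⟶ Z := lift h₀ g₀ ≫ α
  let b : Y₀ ⟶ Z := lift h₀ g₀ ≫ β
  haveI : LocallyOfFinitePresentation (pullback.diagonal Z.hom) := AlgSpLib.lfp_diagonal Z.hom
  let m : Spec (CommRingCat.of (DA R M)) ⟶ pullback Z.hom Z.hom :=
    pullback.lift a.left b.left ((Over.w a).trans (Over.w b).symm)
  obtain ⟨J, ⟨gens, hgens⟩, hJ⟩ := exists_fg_ideal (pullback.diagonal Z.hom) m
  let I : Ideal R := Ideal.span ↑(gens.biUnion fun d => d.coeff.support.image fun j => d.coeff j)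
  refine ⟨I, ⟨_, rfl⟩, fun C φ => ?_⟩
  have hIJ : I ≤ RingHom.ker φ.hom ↔ J ≤ RingHom.ker (mp (M := M) φ.hom) := by
    rw [Ideal.span_le, ← hgens, Submodule.span_le]
    constructor
    · intro h d hd
      show mp φ.hom d = 0
      refine MonoidAlgebra.ext (Finsupp.ext fun j => ?_)
      rw [coeff_mp]
      by_cases hj : j ∈ d.coeff.support
      · rw [show φ.hom (d.coeff j) = 0 from h (Finset.mem_coe.2 (Finset.mem_biUnion.2
          ⟨d, hd, Finset.mem_image.2 ⟨j, hj, rfl⟩⟩))]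
        simp
      · rw [Finsupp.notMem_support_iff.1 hj, map_zero]
        simp
    · intro h c hc
      obtain ⟨d, hd, hc⟩ := Finset.mem_biUnion.1 (Finset.mem_coe.1 hc)
      obtain ⟨j, -, rfl⟩ := Finset.mem_image.1 hc
      show φ.hom (d.coeff j) = 0
      rw [← coeff_mp, show mp φ.hom d = 0 from h hd]
      simp
  rw [hIJ]
  constructor
  · intro hP
    let E : CommRingCat.{u} := CommRingCat.of (MonoidAlgebra C (Multiplicative M))
    let ψ : CommRingCat.of (DA R M) ⟶ E := CommRingCat.ofHom (mp φ.hom)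
    refine (hJ E ψ).1 ?_
    let Y : Over S := Over.mk (Spec.map ψ ≫ Y₀.hom)
    let e : Y ⟶ Y₀ := Over.homMk (Spec.map ψ)
    have hcomp : CommRingCat.ofHom (algebraMap R (DA R M)) ≫ ψ =
        φ ≫ CommRingCat.ofHom (algebraMap C (MonoidAlgebra C (Multiplicative M))) := by
      refine CommRingCat.hom_ext (RingHom.ext fun r => ?_)
      show mp φ.hom (algebraMap R (DA R M) r) = algebraMap C _ (φ.hom r)
      rw [MonoidAlgebra.coe_algebraMap, MonoidAlgebra.coe_algebraMap]
      simp [mp_single]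
    have h1 := hP Y (e ≫ g₀) (e ≫ h₀) ⟨Spec.map (CommRingCat.ofHom (algebraMap C _)), by
      show _ ≫ Spec.map φ ≫ v = Spec.map ψ ≫ Spec.map (CommRingCat.ofHom (algebraMap R (DA R M))) ≫ v
      rw [← Category.assoc, ← Spec.map_comp, ← Category.assoc (Spec.map ψ), ← Spec.map_comp, hcomp]⟩
    rw [← comp_lift_assoc, ← comp_lift_assoc] at h1
    have h2 : Spec.map ψ ≫ a.left = Spec.map ψ ≫ b.left := congrArg CommaMorphism.left h1
    refine ⟨Spec.map ψ ≫ a.left, pullback.hom_ext ?_ ?_⟩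
    · exact (Category.assoc _ _ _).trans (((congrArg (_ ≫ ·) (pullback.diagonal_fst _)).trans (Category.comp_id _)).trans
        ((congrArg (Spec.map ψ ≫ ·) (pullback.lift_fst _ _ _).symm).trans (Category.assoc _ _ _).symm))
    · exact (Category.assoc _ _ _).trans (((congrArg (_ ≫ ·) (pullback.diagonal_snd _)).trans (Category.comp_id _)).trans
        (h2.trans ((congrArg (Spec.map ψ ≫ ·) (pullback.lift_snd _ _ _).symm).trans (Category.assoc _ _ _).symm)))
  · intro hJker Y g h hx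
    obtain ⟨x, hx⟩ := hx
    refine Over.OverMorphism.ext (Scheme.Cover.hom_ext Y.left.affineCover _ _ fun k => ?_)
    haveI : IsAffine (Y.left.affineCover.X k) := inferInstance
    refine (cancel_epi (Y.left.affineCover.X k).isoSpec.inv).1 ?_
    let F : Type u := Γ(Y.left.affineCover.X k, ⊤)
    let c : Spec (CommRingCat.of F) ⟶ Y.left := (Y.left.affineCover.X k).isoSpec.inv ≫ Y.left.affineCover.f k
    obtain ⟨κ, hκ⟩ := Spec.map_surjective (c ≫ x)
    letI : Algebra R F := (κ.hom.comp φ.hom).toAlgebra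
    let ε : (Over.map p).obj (sp R F) ⟶ Y := Over.homMk c (by
      show c ≫ Y.hom = Spec.map (CommRingCat.ofHom (κ.hom.comp φ.hom)) ≫ p
      rw [← Over.w g, ← hx, CommRingCat.ofHom_comp, Spec.map_comp, CommRingCat.ofHom_hom, CommRingCat.ofHom_hom, hκ]
      simp only [Category.assoc]
      exact congrArg (fun r => c ≫ x ≫ Spec.map φ ≫ r) hv)
    obtain ⟨χ, hχ⟩ := hpt_surjective p w (ε ≫ h)
    let q : (Over.map p).obj (sp R F) ⟶ Y₀ := (Over.map p).map (pt (chr (R := R) F χ))
    have hh : q ≫ h₀ = ε ≫ h := hχ.symm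
    have hg : q ≫ g₀ = ε ≫ g := by
      refine Over.OverMorphism.ext ?_
      show (pt (chr (R := R) F χ)).left ≫ (sp R (DA R M)).hom ≫ v = c ≫ g.left
      have h3 : Spec.map (CommRingCat.ofHom (κ.hom.comp φ.hom)) = (c ≫ x) ≫ Spec.map φ := by
        rw [CommRingCat.ofHom_comp, Spec.map_comp, CommRingCat.ofHom_hom, CommRingCat.ofHom_hom, hκ]
      rw [← Category.assoc, Over.w (pt (chr (R := R) F χ)), ← hx]
      show Spec.map (CommRingCat.ofHom (κ.hom.comp φ.hom)) ≫ v = _
      rw [h3]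
      simp only [Category.assoc]
    let L : MonoidAlgebra C (Multiplicative M) →+* F := MonoLocus.ev κ.hom χ
    have hL : (chr (R := R) F χ).toRingHom = L.comp (mp φ.hom) := by
      refine MonoidAlgebra.ringHom_ext (fun r => ?_) fun j => ?_
      · show chr (R := R) F χ (MonoidAlgebra.single 1 r) = L (mp φ.hom (MonoidAlgebra.single 1 r))
        rw [mp_single, MonoLocus.ev_single, chr, MonoidAlgebra.lift_single, map_one, mul_one, Algebra.smul_def,
          mul_one]
        rfl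
      · show chr (R := R) F χ (MonoidAlgebra.single j 1) = L (mp φ.hom (MonoidAlgebra.single j 1))
        rw [mp_single, MonoLocus.ev_single, chr, MonoidAlgebra.lift_single, map_one, map_one, one_mul, one_smul]
    obtain ⟨l, hl⟩ := (hJ (CommRingCat.of F) (CommRingCat.ofHom (chr (R := R) F χ).toRingHom)).2 (by
      intro d hd
      show (chr (R := R) F χ).toRingHom d = 0
      rw [hL, RingHom.comp_apply, show mp φ.hom d = 0 from hJker hd, map_zero])
    have hl1 := congrArg (· ≫ pullback.fst Z.hom Z.hom) hl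
    have hl2 := congrArg (· ≫ pullback.snd Z.hom Z.hom) hl
    simp only [Category.assoc, pullback.diagonal_fst, pullback.diagonal_snd, Category.comp_id, m,
      pullback.lift_fst, pullback.lift_snd] at hl1 hl2
    have hab : q ≫ a = q ≫ b := Over.OverMorphism.ext (hl1.symm.trans hl2)
    have hfin : ε ≫ lift h g ≫ α = ε ≫ lift h g ≫ β := by
      rw [comp_lift_assoc, comp_lift_assoc, ← hg, ← hh, ← comp_lift_assoc, ← comp_lift_assoc]
      exact hab
    have h4 := congrArg CommaMorphism.left hfin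
    simp only [Over.comp_left, ε, Over.homMk_left, c, Category.assoc] at h4
    simpa only [Over.comp_left, Category.assoc] using h4

theorem exists_ideal_affine [GrpObj H] [IsSeparated Z.hom] [LocallyOfFiniteType Z.hom]
    (hH : TwC.Locally S TwC.Topology.fpqc (fun S' f => ∃ (M : Type) (_ : AddCommGroup M),
      Nonempty (Grp.mk (Red.bc f H) ≅ Grp.mk (Red.DS S' M))))
    (α β : H ⊗ X ⟶ Z) (U : X.left.affineOpens) :
    ∃ I : Ideal Γ(X.left, U.1), I.FG ∧ HasIdeal (pred α β) U.2.fromSpec I := by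
  classical
  obtain ⟨S', f, hflat, hsurj, hcov, hloc⟩ := hH
  haveI := hflat
  haveI := hsurj
  haveI : IsOpenImmersion U.2.fromSpec := IsAffineOpen.isOpenImmersion_fromSpec U.2
  let v := U.2.fromSpec
  let π := pullback.fst (v ≫ X.hom) f
  let σ := pullback.snd (v ≫ X.hom) f
  obtain ⟨W, hW, hWU⟩ := DescHom.hcov_pullback_snd f (v ≫ X.hom) hcov ⊤ (isAffineOpen_top _)
  have hex : ∀ y : ↥(pullback (v ≫ X.hom) f), ∃ (V : S'.Opens) (M : Type) (_ : AddCommGroup M)
      (_ : Grp.mk (Red.bc (V.ι ≫ f) H) ≅ Grp.mk (Red.DS (V : Scheme.{u}) M)) (T : (pullback (v ≫ X.hom) f).Opens),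
      IsAffineOpen T ∧ y ∈ T ∧ T ≤ σ ⁻¹ᵁ V := by
    intro y
    obtain ⟨V, hV, M, hM, ⟨e⟩⟩ := hloc (σ y)
    obtain ⟨T, hT, hyT, hTV⟩ := exists_isAffineOpen_mem_and_subset (x := y) (U := σ ⁻¹ᵁ V) hV
    exact ⟨V, M, hM, e, T, hT, hyT, hTV⟩
  choose V M hM e T hT hyT hTV using hex
  obtain ⟨s, hs⟩ := hW.elim_finite_subcover (fun y => ((T y : (pullback (v ≫ X.hom) f).Opens) : Set ↥(pullback (v ≫ X.hom) f)))
    (fun y => (T y).isOpen) fun y _ => Set.mem_iUnion.2 ⟨y, hyT y⟩
  let B : ↥s → CommRingCat.{u} := fun k => Γ((T k.1 : Scheme.{u}), ⊤)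
  haveI : ∀ k : ↥s, IsAffine (T k.1 : Scheme.{u}) := fun k => hT k.1
  have hψ : ∀ k : ↥s, ∃ ψ : Γ(X.left, U.1) ⟶ B k,
      Spec.map ψ = (T k.1 : Scheme.{u}).isoSpec.inv ≫ (T k.1).ι ≫ π := fun k => Spec.map_surjective _
  choose ψ hψ using hψ
  refine exists_ideal_of_family (pred α β) v B ψ (fun k => ?_) (fun q => ?_) fun k => ?_
  · rw [hψ]
    haveI : Flat π := inferInstanceAs (Flat (pullback.fst (v ≫ X.hom) f))
    infer_instance
  · have hq : q ∈ π.base '' (W : Set ↥(pullback (v ≫ X.hom) f)) := by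
      rw [hWU]
      trivial
    obtain ⟨y, hy, hyq⟩ := hq
    obtain ⟨z, hz⟩ := Set.mem_iUnion.1 (hs hy)
    obtain ⟨hzs, hyz⟩ := Set.mem_iUnion.1 hz
    haveI : IsAffine (T z : Scheme.{u}) := hT z
    refine ⟨⟨z, hzs⟩, (T z : Scheme.{u}).isoSpec.hom ⟨y, hyz⟩, ?_⟩
    rw [hψ, ← Scheme.Hom.comp_apply, Iso.hom_inv_id_assoc]
    exact hyq
  · letI := hM k.1
    obtain ⟨w, hw⟩ := MultLift.exists_split_iso (R := (B k : Type u)) (e k.1)
      ((T k.1 : Scheme.{u}).isoSpec.inv ≫ σ.resLE (V k.1) (T k.1) (hTV k.1))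
      ((Spec.map (ψ k) ≫ v) ≫ X.hom) (by
        rw [hψ, Category.assoc, Scheme.Hom.resLE_comp_ι_assoc]
        simp only [Category.assoc, σ, π]
        exact congrArg (fun m => (T k.1 : Scheme.{u}).isoSpec.inv ≫ (T k.1).ι ≫ m) pullback.condition.symm)
    exact exists_ideal_piece (R := (B k : Type u)) α β ((Spec.map (ψ k) ≫ v) ≫ X.hom) w (Spec.map (ψ k) ≫ v) rfl


/-- The locus of agreement is closed and of finite presentation. -/
theorem exists_eqLocus [GrpObj H] [IsSeparated Z.hom] [LocallyOfFiniteType Z.hom]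
    (hH : TwC.Locally S TwC.Topology.fpqc (fun S' f => ∃ (M : Type) (_ : AddCommGroup M),
      Nonempty (Grp.mk (Red.bc f H) ≅ Grp.mk (Red.DS S' M))))
    (α β : H ⊗ X ⟶ Z) :
    ∃ (T : Over S) (j : T ⟶ X), IsClosedImmersion j.left ∧ LocallyOfFinitePresentation j.left ∧
      ∀ (Y : Over S) (g : Y ⟶ X), (∃ t : Y ⟶ T, t ≫ j = g) ↔
        ∀ (Y' : Over S) (x : Y' ⟶ Y) (h : Y' ⟶ H), lift h (x ≫ g) ≫ α = lift h (x ≫ g) ≫ β := by
  obtain ⟨W, i, hcl, hfp, hi⟩ := exists_closed (pred α β) fun U => exists_ideal_affine hH α β U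
  refine ⟨Over.mk (i ≫ X.hom), Over.homMk i, hcl, hfp, fun Y g => ⟨?_, fun h => ?_⟩⟩
  · rintro ⟨t, ht⟩ Y' x h
    have hP : Agrees α β g.left := (hi _ _).1 ⟨t.left, congrArg CommaMorphism.left ht⟩
    exact hP Y' (x ≫ g) h ⟨x.left, rfl⟩
  · obtain ⟨l, hl⟩ := (hi Y.left g.left).2 fun Y₁ g' y hx => by
      obtain ⟨x, hx⟩ := hx
      let x' : Y₁ ⟶ Y := Over.homMk x (by
        rw [← Over.w g, ← Category.assoc, hx, Over.w g'])
      rw [show g' = x' ≫ g from Over.OverMorphism.ext hx.symm]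
      exact h Y₁ x' y
    exact ⟨Over.homMk l (by
      show l ≫ i ≫ X.hom = Y.hom
      rw [← Category.assoc, hl, Over.w g]), Over.OverMorphism.ext hl⟩

end Groth.Agent.FixAvg
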