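import Groth.Agent.FixAvgLib.Avg

/-!
Fixed points of actions of groups of multiplicative type lift along square-zero thickenings.
-/

set_option autoImplicit false
set_option backward.isDefEq.respectTransparency false

noncomputable section

universe u

open CategoryTheory CategoryTheory.Limits MonoidalCategory CartesianMonoidalCategory AlgebraicGeometry CoactBr
open scoped MonObj TensorProduct

namespace Groth.Agent.FixAvg

open Groth.Agent.FreeAct (DA)
open Groth.Agent.ConjAvg (int int_one pts pts_surjective pt_id')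

attribute [local instance] CoactBr.braidedAlgSpecOf

variable {R : Type u} [CommRing R] {X H : Over (Spec (CommRingCat.of R))} [GrpObj H]

/-- An affine piece on which the group is split and the point lies in an affine open. -/
structure Piece (H : Over (Spec (CommRingCat.of R))) [GrpObj H] (y : 𝟙_ (Over (Spec (CommRingCat.of R))) ⟶ X) where
  /-- the ring -/
  B : Type u
  [crB : CommRing B]
  [algB : Algebra R B]
  /-- the character group -/
  M : Type
  [agM : AddCommGroup M]
  /-- a scheme over which the group is split -/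
  U : Scheme.{u}
  /-- its structure map -/
  g : U ⟶ Spec (CommRingCat.of R)
  /-- the splitting -/
  e : Grp.mk (Red.bc g H) ≅ Grp.mk (Red.DS U M)
  /-- the map to it -/
  j : Spec (CommRingCat.of B) ⟶ U
  hj : j ≫ g = (sp R B).hom
  /-- the chart -/
  V : PChart (toUnit (sp R B) ≫ y)

attribute [instance] Piece.crB Piece.algB Piece.agM

namespace Piece

variable {y : 𝟙_ (Over (Spec (CommRingCat.of R))) ⟶ X} (P : Piece H y) {J : Ideal R} (hJ : J ^ 2 = ⊥)
  (a : AlgGrp.Action H X)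

/-- The point is fixed modulo the ideal. -/
def FixMod (J : Ideal R) (a : AlgGrp.Action H X) (y : 𝟙_ (Over (Spec (CommRingCat.of R))) ⟶ X) : Prop :=
  ∀ (C : Type u) [CommRing C] [Algebra R C], J ≤ RingHom.ker (algebraMap R C) → ∀ h : sp R C ⟶ H,
    lift h (toUnit _ ≫ y) ≫ a.act = toUnit _ ≫ y

theorem exists_split (C : Type u) [CommRing C] [Algebra R C] (β : P.B →ₐ[R] C) :
    ∃ w : sp C (DA C P.M) ≅ Red.bc (sp R C).hom H, IsMonHom w.hom :=
  MultLift.exists_split_iso P.e (Spec.map (CommRingCat.ofHom β.toRingHom) ≫ P.j) (sp R C).hom (by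
    rw [Category.assoc, P.hj]
    show Spec.map _ ≫ Spec.map _ = Spec.map (CommRingCat.ofHom (algebraMap R C))
    rw [← Spec.map_comp, ← CommRingCat.ofHom_comp, show β.toRingHom.comp (algebraMap R P.B) = algebraMap R C from
      β.comp_algebraMap])

/-- The averaged orbit on the piece. -/
def Good (J : Ideal R) (hJ : J ^ 2 = ⊥) (a : AlgGrp.Action H X) (z : sp R P.B ⟶ X) : Prop :=
  ∃ (spl : sp P.B (DA P.B P.M) ≅ Red.bc (sp R P.B).hom H) (_ : IsMonHom spl.hom),
    IsAvg spl (lift (𝟙 H) (toUnit H ≫ y) ≫ a.act) J hJ z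

theorem congr_const {B' : Type u} [CommRing B'] [Algebra R B'] {B : Type u} [CommRing B] [Algebra R B] [Algebra B B']
    [IsScalarTower R B B'] (hy : FixMod J a y) (h : sp R B' ⟶ H) :
    pt (Ideal.Quotient.mkₐ R (J.map (algebraMap R B'))) ≫ h ≫ lift (𝟙 H) (toUnit H ≫ y) ≫ a.act =
      pt (Ideal.Quotient.mkₐ R (J.map (algebraMap R B'))) ≫ pt (IsScalarTower.toAlgHom R B B') ≫
        toUnit (sp R B) ≫ y := by
  have hpre : ∀ {Y Y' : Over (Spec (CommRingCat.of R))} (v : Y' ⟶ Y), v ≫ toUnit Y ≫ y = toUnit Y' ≫ y := fun v => by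
    rw [← Category.assoc, toUnit_unique (v ≫ toUnit _) (toUnit _)]
  simp only [comp_lift_assoc, Category.comp_id, hpre]
  refine hy _ (fun r hr => ?_) _
  rw [RingHom.mem_ker, IsScalarTower.algebraMap_apply R B' (B' ⧸ J.map (algebraMap R B'))]
  exact Ideal.Quotient.eq_zero_iff_mem.2 (Ideal.mem_map_of_mem _ hr)

theorem exists_good (hy : FixMod J a y) : ∃ z, P.Good J hJ a z := by
  obtain ⟨spl, hspl⟩ := P.exists_split P.B (AlgHom.id R P.B)
  haveI := hspl
  obtain ⟨z, hz, -⟩ := exists_isPush (hJ := hJ) (ℓ := int P.B P.M) (h1 := int_one P.B) P.V _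
    (congr_const a hy (pts spl (MonoidAlgebra P.B (Multiplicative P.M)) (MonoidAlgebra.of P.B _)))
  exact ⟨z, spl, hspl, hz⟩

variable {P hJ a} [IsSeparated X.hom]

/-- The averaged orbits of two pieces agree on common algebras. -/
theorem agree {Q : Piece H y} {z : sp R P.B ⟶ X} (hz : P.Good J hJ a z) {z' : sp R Q.B ⟶ X}
    (hz' : Q.Good J hJ a z') (C : Type u) [CommRing C] [Algebra R C] (β : P.B →ₐ[R] C) (β' : Q.B →ₐ[R] C) :
    pt β ≫ z = pt β' ≫ z' := by
  obtain ⟨s, hs, hz⟩ := hz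
  obtain ⟨s', hs', hz'⟩ := hz'
  haveI := hs
  haveI := hs'
  obtain ⟨wC, hwC⟩ := P.exists_split C β
  haveI := hwC
  have h1 : IsAvg wC (lift (𝟙 H) (toUnit H ≫ y) ≫ a.act) J hJ (pt β ≫ z) := by
    letI : Algebra P.B C := β.toRingHom.toAlgebra
    haveI : IsScalarTower R P.B C := IsScalarTower.of_algebraMap_eq fun r => (β.commutes r).symm
    rw [show β = IsScalarTower.toAlgHom R P.B C from AlgHom.ext fun _ => rfl]
    exact isAvg_bc hz C wC
  have h2 : IsAvg wC (lift (𝟙 H) (toUnit H ≫ y) ≫ a.act) J hJ (pt β' ≫ z') := by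
    letI : Algebra Q.B C := β'.toRingHom.toAlgebra
    haveI : IsScalarTower R Q.B C := IsScalarTower.of_algebraMap_eq fun r => (β'.commutes r).symm
    rw [show β' = IsScalarTower.toAlgHom R Q.B C from AlgHom.ext fun _ => rfl]
    exact isAvg_bc hz' C wC
  exact IsPush.unique h1 h2

theorem fixed {z : sp R P.B ⟶ X} (hz : P.Good J hJ a z) (C : Type u) [CommRing C] [Algebra R C] (β : P.B →ₐ[R] C)
    (h : sp R C ⟶ H) : lift h (pt β ≫ z) ≫ a.act = pt β ≫ z := by
  obtain ⟨s, hs, hz⟩ := hz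
  haveI := hs
  letI : Algebra P.B C := β.toRingHom.toAlgebra
  haveI : IsScalarTower R P.B C := IsScalarTower.of_algebraMap_eq fun r => (β.commutes r).symm
  obtain ⟨χ, rfl⟩ := pts_surjective s C h
  rw [show β = IsScalarTower.toAlgHom R P.B C from AlgHom.ext fun _ => rfl]
  exact hz.fixed a y C χ

theorem comp_eq {z : sp R P.B ⟶ X} (hz : P.Good J hJ a z) (hy : FixMod J a y) (C : Type u) [CommRing C] [Algebra R C]
    (β : P.B →ₐ[R] C) (hC : J ≤ RingHom.ker (algebraMap R C)) : pt β ≫ z = toUnit (sp R C) ≫ y := by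
  obtain ⟨s, hs, hz⟩ := hz
  haveI := hs
  have e := IsPush.congr_cst P.V hz (congr_const a hy _)
  rw [show IsScalarTower.toAlgHom R P.B P.B = AlgHom.id R P.B from rfl, pt_id', Category.id_comp] at e
  let N : Ideal P.B := J.map (algebraMap R P.B)
  let β₀ : (P.B ⧸ N) →ₐ[R] C := Ideal.Quotient.liftₐ N β (fun b hb => by
    have : N ≤ RingHom.ker β.toRingHom := Ideal.map_le_iff_le_comap.2 fun r hr => by
      show β (algebraMap R P.B r) = 0
      rw [β.commutes]
      exact hC hr
    exact this hb)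
  rw [show β = β₀.comp (Ideal.Quotient.mkₐ R N) from AlgHom.ext fun _ => rfl, pt_comp, Category.assoc, e,
    ← Category.assoc, ← Category.assoc, toUnit_unique ((pt β₀ ≫ pt (Ideal.Quotient.mkₐ R N)) ≫ toUnit _) (toUnit _)]

end Piece

/-- The averaged orbits on two pieces agree along maps to them over the base. -/
theorem agree_hom [IsSeparated X.hom] {y : 𝟙_ (Over (Spec (CommRingCat.of R))) ⟶ X} {P Q : Piece H y} {J : Ideal R}
    {hJ : J ^ 2 = ⊥} {act : AlgGrp.Action H X} {z : sp R P.B ⟶ X} (hz : P.Good J hJ act z) {z' : sp R Q.B ⟶ X}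
    (hz' : Q.Good J hJ act z') {C : Type u}
    [CommRing C] (a : Spec (CommRingCat.of C) ⟶ Spec (CommRingCat.of P.B))
    (b : Spec (CommRingCat.of C) ⟶ Spec (CommRingCat.of Q.B)) (hab : a ≫ (sp R P.B).hom = b ≫ (sp R Q.B).hom) :
    a ≫ z.left = b ≫ z'.left := by
  obtain ⟨φ, hφ⟩ := Spec.map_surjective (a ≫ (sp R P.B).hom)
  letI : Algebra R C := φ.hom.toAlgebra
  have hC : (sp R C).hom = a ≫ (sp R P.B).hom := by
    show Spec.map (CommRingCat.ofHom φ.hom) = _
    rw [CommRingCat.ofHom_hom, hφ]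
  obtain ⟨β, hβ⟩ := DiagRep.exists_pt (Over.homMk a hC.symm : sp R C ⟶ sp R P.B)
  obtain ⟨β', hβ'⟩ := DiagRep.exists_pt (Over.homMk b (hC.trans hab).symm : sp R C ⟶ sp R Q.B)
  have h := congrArg CommaMorphism.left (Piece.agree hz hz' C β β')
  rw [← hβ, ← hβ'] at h
  exact h

/-- Morphisms out of a scheme over the base are equal when they are so on points over algebras over the pieces of
an fpqc cover. -/
theorem eq_of_cover {S' : Scheme.{u}} (f : S' ⟶ Spec (CommRingCat.of R)) [Flat f] [Surjective f]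
    (𝒰 : S'.OpenCover) (B : 𝒰.I₀ → Type u) [∀ x, CommRing (B x)] [∀ x, Algebra R (B x)]
    (e : ∀ x, 𝒰.X x ⟶ Spec (CommRingCat.of (B x))) (he : ∀ x, 𝒰.f x ≫ f = e x ≫ (sp R (B x)).hom)
    {Y : Over (Spec (CommRingCat.of R))} (a b : Y ⟶ X)
    (h : ∀ (x : 𝒰.I₀) (C : Type u) [CommRing C] [Algebra R C] (_ : B x →ₐ[R] C) (y : sp R C ⟶ Y), y ≫ a = y ≫ b) :
    a = b := by
  refine Over.OverMorphism.ext ?_
  haveI : Epi (pullback.fst Y.hom f) := Flat.epi_of_flat_of_surjective _
  refine (cancel_epi (pullback.fst Y.hom f)).1 ?_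
  refine Scheme.Cover.hom_ext (Scheme.Pullback.openCoverOfRight 𝒰 Y.hom f) _ _ fun x => ?_
  simp only [Scheme.Pullback.openCoverOfRight_f, pullback.map, pullback.lift_fst_assoc, Category.assoc,
    Category.comp_id]
  let Z := pullback Y.hom (𝒰.f x ≫ f)
  refine Scheme.Cover.hom_ext Z.affineCover _ _ fun k => ?_
  haveI : IsAffine (Z.affineCover.X k) := inferInstance
  refine (cancel_epi (Z.affineCover.X k).isoSpec.inv).1 ?_
  let C : Type u := Γ(Z.affineCover.X k, ⊤)
  let c : Spec (CommRingCat.of C) ⟶ Z := (Z.affineCover.X k).isoSpec.inv ≫ Z.affineCover.f k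
  obtain ⟨φ, hφ⟩ := Spec.map_surjective ((c ≫ pullback.fst _ _) ≫ Y.hom)
  letI : Algebra R C := φ.hom.toAlgebra
  have hC : (sp R C).hom = (c ≫ pullback.fst _ _) ≫ Y.hom := by
    show Spec.map (CommRingCat.ofHom φ.hom) = _
    rw [CommRingCat.ofHom_hom, hφ]
  have hcond : (c ≫ pullback.snd _ _ ≫ e x) ≫ (sp R (B x)).hom = (c ≫ pullback.fst _ _) ≫ Y.hom := by
    simp only [Category.assoc]
    rw [← he x, pullback.condition]
  obtain ⟨β, -⟩ := DiagRep.exists_pt
    (Over.homMk (c ≫ pullback.snd _ _ ≫ e x) (hcond.trans hC.symm) : sp R C ⟶ sp R (B x))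
  have h' := congrArg CommaMorphism.left (h x C β (Over.homMk (c ≫ pullback.fst _ _) hC.symm))
  simp only [Over.comp_left, Over.homMk_left, c, Category.assoc] at h'
  simpa only [Category.assoc] using h'

/-- A point of a separated scheme which is fixed modulo a square-zero ideal is congruent to a fixed point. -/
theorem exists_fixed {J : Ideal R} (hJ : J ^ 2 = ⊥) [IsSeparated X.hom]
    (hH : TwC.Locally (Spec (CommRingCat.of R)) TwC.Topology.fpqc (fun S' f => ∃ (M : Type) (_ : AddCommGroup M),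
      Nonempty (Grp.mk (Red.bc f H) ≅ Grp.mk (Red.DS S' M))))
    (a : AlgGrp.Action H X) (y : 𝟙_ (Over (Spec (CommRingCat.of R))) ⟶ X) (hy : Piece.FixMod J a y) :
    ∃ g : 𝟙_ (Over (Spec (CommRingCat.of R))) ⟶ X,
      toUnit (Over.mk (Spec.map (CommRingCat.ofHom (Ideal.Quotient.mk J))) : Over (Spec (CommRingCat.of R))) ≫ g =
        toUnit (Over.mk (Spec.map (CommRingCat.ofHom (Ideal.Quotient.mk J))) : Over (Spec (CommRingCat.of R))) ≫ y ∧
      ∀ (Y : Over (Spec (CommRingCat.of R))) (h : Y ⟶ H), lift h (toUnit Y ≫ g) ≫ a.act = toUnit Y ≫ g := by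
  obtain ⟨S', f, hflat, hsurj, hcov, hloc⟩ := hH
  haveI := hflat
  haveI := hsurj
  have hex : ∀ x : S', ∃ (P : Piece H y) (ι' : Spec (CommRingCat.of P.B) ⟶ S'),
      IsOpenImmersion ι' ∧ x ∈ Set.range ι' ∧ ι' ≫ f = (sp R P.B).hom := by
    intro x
    obtain ⟨U, hxU, M, _, ⟨e⟩⟩ := hloc x
    let ηl := y.left
    obtain ⟨V, hV, hxV, -⟩ := exists_isAffineOpen_mem_and_subset (X := X.left) (x := ηl (f x)) (U := ⊤) trivial
    obtain ⟨T, hT, hxT, hTU⟩ := exists_isAffineOpen_mem_and_subset (X := S') (x := x) (U := U ⊓ (f ≫ ηl) ⁻¹ᵁ V)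
      ⟨hxU, hxV⟩
    haveI : IsAffine (T : Scheme.{u}) := hT
    let B : Type u := Γ((T : Scheme.{u}), ⊤)
    let i : Spec (CommRingCat.of B) ⟶ (T : Scheme.{u}) := (T : Scheme.{u}).isoSpec.inv
    obtain ⟨φ, hφ⟩ := Spec.map_surjective (i ≫ T.ι ≫ f)
    letI : Algebra R B := φ.hom.toAlgebra
    have hp : (sp R B).hom = i ≫ T.ι ≫ f := by
      show Spec.map (CommRingCat.ofHom φ.hom) = _
      rw [CommRingCat.ofHom_hom, hφ]
    obtain ⟨φ', hφ'⟩ := Spec.map_surjective (hV.fromSpec ≫ X.hom)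
    letI : Algebra R Γ(X.left, V) := φ'.hom.toAlgebra
    let jV : sp R Γ(X.left, V) ⟶ X := Over.homMk hV.fromSpec (by
      show hV.fromSpec ≫ X.hom = Spec.map (CommRingCat.ofHom φ'.hom)
      rw [CommRingCat.ofHom_hom, hφ'])
    haveI : IsOpenImmersion jV.left := IsAffineOpen.isOpenImmersion_fromSpec hV
    let e₁ : sp R B ⟶ X := toUnit (sp R B) ≫ y
    have hsub : Set.range e₁.left ⊆ Set.range jV.left := by
      rintro _ ⟨t, rfl⟩
      show e₁.left t ∈ Set.range hV.fromSpec
      rw [hV.range_fromSpec, show e₁.left = (i ≫ T.ι ≫ f) ≫ ηl from congrArg (· ≫ ηl) (((Category.comp_id _).symm.trans (Over.w (toUnit (sp R B)))).trans hp)]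
      exact (hTU (i t).2).2
    let l := IsOpenImmersion.lift jV.left e₁.left hsub
    have hl : l ≫ jV.left = e₁.left := IsOpenImmersion.lift_fac _ _ _
    let y : sp R B ⟶ sp R Γ(X.left, V) := Over.homMk l (by rw [← Over.w jV, ← Category.assoc, hl, Over.w])
    obtain ⟨L, hL⟩ := DiagRep.exists_pt y
    refine ⟨{ B := B, M := M, U := U, g := U.ι ≫ f, e := e, j := i ≫ S'.homOfLE (hTU.trans inf_le_left),
              hj := by rw [Category.assoc, Scheme.homOfLE_ι_assoc, hp],
              V := { ring := Γ(X.left, V), hom := jV, isOpen := inferInstance, one := L,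
                     pt_one := by rw [← hL]; exact Over.OverMorphism.ext hl } }, i ≫ T.ι, ?_, ?_, ?_⟩
    · show IsOpenImmersion ((T : Scheme.{u}).isoSpec.inv ≫ T.ι)
      infer_instance
    · obtain ⟨a, ha⟩ := (T : Scheme.{u}).isoSpec.inv.surjective ⟨x, hxT⟩
      refine ⟨a, ?_⟩
      show T.ι (i a) = x
      exact (congrArg T.ι ha).trans rfl
    · exact (Category.assoc _ _ _).trans hp.symm
  choose P ι' hι hmem hιf using hex
  choose z hz using fun x => (P x).exists_good hJ a hy
  let 𝒰 : S'.OpenCover := Scheme.Cover.mkOfCovers S' (fun x : S' => Spec (CommRingCat.of (P x).B)) ι'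
    (fun x => let ⟨a, ha⟩ := hmem x; ⟨x, a, ha⟩) fun x => hι x
  let G' : Scheme.{u} := X.left
  -- the local points agree
  have hagree : ∀ (Q : Scheme.{u}) (x x' : S') (a₁ : Q ⟶ Spec (CommRingCat.of (P x).B))
      (b₁ : Q ⟶ Spec (CommRingCat.of (P x').B)), (a₁ ≫ ι' x) ≫ f = (b₁ ≫ ι' x') ≫ f →
      a₁ ≫ (z x).left = b₁ ≫ (z x').left := by
    intro Q x x' a₁ b₁ hab
    refine Scheme.Cover.hom_ext Q.affineCover _ _ fun k => ?_
    haveI : IsAffine (Q.affineCover.X k) := inferInstance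
    let c : Spec (CommRingCat.of Γ(Q.affineCover.X k, ⊤)) ⟶ Q :=
      (Q.affineCover.X k).isoSpec.inv ≫ Q.affineCover.f k
    have hc : (c ≫ a₁) ≫ (sp R (P x).B).hom = (c ≫ b₁) ≫ (sp R (P x').B).hom := by
      rw [← hιf x, ← hιf x']
      simp only [Category.assoc] at hab ⊢
      rw [hab]
    have := agree_hom (hz x) (hz x') (c ≫ a₁) (c ≫ b₁) hc
    simp only [c, Category.assoc] at this
    exact (cancel_epi _).1 this
  let g' : S' ⟶ G' := Scheme.Cover.glueMorphisms 𝒰 (fun x => (z x).left) fun x y =>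
    hagree (pullback (ι' x) (ι' y)) x y (pullback.fst _ _) (pullback.snd _ _) (by rw [pullback.condition])
  have hg' : ∀ x, ι' x ≫ g' = (z x).left := fun x => Scheme.Cover.ι_glueMorphisms 𝒰 _ _ x
  have hg'G : g' ≫ X.hom = f := Scheme.Cover.hom_ext 𝒰 _ _ fun x => by
    show ι' x ≫ g' ≫ X.hom = ι' x ≫ f
    rw [← Category.assoc, hg' x, hιf x]
    exact Over.w (z x)
  have hsym : pullback.fst f f ≫ g' = pullback.snd f f ≫ g' :=
    Scheme.Cover.hom_ext (Scheme.Pullback.openCoverOfLeftRight 𝒰 𝒰 f f) _ _ fun k => by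
      obtain ⟨x, y⟩ := k
      simp only [Scheme.Pullback.openCoverOfLeftRight_f, pullback.map, pullback.lift_fst_assoc,
        pullback.lift_snd_assoc, Category.assoc]
      erw [hg', hg']
      exact hagree _ x y _ _ (((Category.assoc _ _ _).trans pullback.condition).trans (Category.assoc _ _ _).symm)
  haveI : EffectiveEpi f := by
    rw [← Sieve.effectiveEpimorphic_singleton, Presieve.EffectiveEpimorphic.iff_forall_isSheafFor_yoneda]
    intro W
    exact (GrothendieckTopology.Subcanonical.isSheaf_of_isRepresentable _).isSheafFor _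
      (Precoverage.generate_mem_toGrothendieck (DescHom.singleton_mem_fpqc f hcov))
  let gl : Spec (CommRingCat.of R) ⟶ G' := EffectiveEpi.desc f g' fun g₁ g₂ h => by
    rw [← pullback.lift_fst_assoc g₁ g₂ h g', hsym, pullback.lift_snd_assoc]
  have hgl : f ≫ gl = g' := EffectiveEpi.fac f g' _
  let g : 𝟙_ (Over (Spec (CommRingCat.of R))) ⟶ X := Over.homMk gl (by
    show gl ≫ X.hom = 𝟙 _
    rw [← cancel_epi f, ← Category.assoc, hgl, hg'G, Category.comp_id])
  have hres : ∀ (x : S') (C : Type u) [CommRing C] [Algebra R C] (β : (P x).B →ₐ[R] C),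
      toUnit (sp R C) ≫ g = pt β ≫ z x := by
    intro x C _ _ β
    refine Over.OverMorphism.ext ?_
    have ht : (toUnit (sp R C)).left = (sp R C).hom := (Category.comp_id _).symm.trans (Over.w (toUnit (sp R C)))
    show (toUnit (sp R C)).left ≫ gl = (pt β).left ≫ (z x).left
    rw [ht, ← Over.w (pt β), ← hιf x, Category.assoc, Category.assoc, hgl, hg' x]
  refine ⟨g, ?_, ?_⟩
  · refine eq_of_cover f 𝒰 (fun x => (P x).B) (fun x => 𝟙 _) (fun x => hιf x) _ _ fun x C _ _ β v => ?_
    simp only [← Category.assoc]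
    rw [toUnit_unique (v ≫ toUnit _) (toUnit _), hres x C β]
    refine Piece.comp_eq (hz x) hy C β fun r hr => ?_
    obtain ⟨ψ, hψ⟩ := Spec.map_surjective v.left
    have hw : CommRingCat.ofHom (Ideal.Quotient.mk J) ≫ ψ = CommRingCat.ofHom (algebraMap R C) := by
      apply Spec.map_injective
      rw [Spec.map_comp, hψ]
      exact Over.w v
    have : algebraMap R C r = ψ.hom (Ideal.Quotient.mk J r) := (ConcreteCategory.congr_hom hw r).symm
    rw [RingHom.mem_ker, this, Ideal.Quotient.eq_zero_iff_mem.2 hr, map_zero]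
  · have key : lift (𝟙 H) (toUnit H ≫ g) ≫ a.act = toUnit H ≫ g := by
      refine eq_of_cover f 𝒰 (fun x => (P x).B) (fun x => 𝟙 _) (fun x => hιf x) _ _ fun x C _ _ β v => ?_
      rw [comp_lift_assoc, Category.comp_id, ← Category.assoc v, toUnit_unique (v ≫ toUnit _) (toUnit _), hres x C β]
      exact Piece.fixed (hz x) C β v
    intro Y h
    have e := congrArg (h ≫ ·) key
    simp only [comp_lift_assoc, Category.comp_id] at e
    rw [← Category.assoc h, toUnit_unique (h ≫ toUnit _) (toUnit Y)] at e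
    exact e

end Groth.Agent.FixAvg
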