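import Groth.Agent.FixAvgLib.Glue
import Groth.Agent.FixAvgLib.EqLocus
import Groth.Agent.ConjAvgLib.LiftNilp
import Groth.Agent.TransporterLib.Smooth
import Groth.Prelude.Def_ActBC

/-!
Smoothness of fixed loci of actions of groups of multiplicative type.
-/

set_option autoImplicit false
set_option backward.isDefEq.respectTransparency false

noncomputable section

universe u

open CategoryTheory CategoryTheory.Limits MonoidalCategory CartesianMonoidalCategory AlgebraicGeometry CoactBr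
open scoped MonObj

namespace Groth.Agent.FixAvg

attribute [local instance] CoactBr.braidedAlgSpecOf

variable {S : Scheme.{u}} {H X : Over S} [GrpObj H]

/-- The fixed locus in a smooth separated scheme is smooth. -/
theorem smooth_fixed
    (hH : TwC.Locally S TwC.Topology.fpqc (fun S' f => ∃ (M : Type) (_ : AddCommGroup M),
      Nonempty (Grp.mk (Red.bc f H) ≅ Grp.mk (Red.DS S' M))))
    [Smooth X.hom] [IsSeparated X.hom] (a : AlgGrp.Action H X) {T : Over S} (j : T ⟶ X) [Mono j.left]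
    [LocallyOfFinitePresentation T.hom]
    (hT : ∀ (Y : Over S) (g : Y ⟶ X), (∃ t : Y ⟶ T, t ≫ j = g) ↔
      ∀ (Y' : Over S) (x : Y' ⟶ Y) (h : Y' ⟶ H), lift h (x ≫ g) ≫ a.act = x ≫ g) :
    Smooth T.hom := by
  refine (HasRingHomProperty.iff_appLE (P := @Smooth)).2 fun U V e => ?_
  have hfp := (HasRingHomProperty.iff_appLE (P := @LocallyOfFinitePresentation)).1 inferInstance U V e
  let φ := T.hom.appLE U.1 V.1 e
  letI : Algebra Γ(S, U.1) Γ(T.left, V.1) := φ.hom.toAlgebra
  haveI : Algebra.FinitePresentation Γ(S, U.1) Γ(T.left, V.1) := hfp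
  haveI : IsOpenImmersion U.2.fromSpec := IsAffineOpen.isOpenImmersion_fromSpec U.2
  haveI : IsOpenImmersion V.2.fromSpec := IsAffineOpen.isOpenImmersion_fromSpec V.2
  suffices hfs : Algebra.FormallySmooth Γ(S, U.1) Γ(T.left, V.1) from ⟨inferInstance, inferInstance⟩
  refine Algebra.FormallySmooth.of_comp_surjective fun C _ _ I hI L => ?_
  let mkI : CommRingCat.of C ⟶ CommRingCat.of (C ⧸ I) := CommRingCat.ofHom (Ideal.Quotient.mk I)
  let p : Spec (CommRingCat.of C) ⟶ S :=
    Spec.map (CommRingCat.ofHom (algebraMap Γ(S, U.1) C)) ≫ U.2.fromSpec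
  let τ₀ : Spec (CommRingCat.of (C ⧸ I)) ⟶ T.left := Spec.map (CommRingCat.ofHom L.toRingHom) ≫ V.2.fromSpec
  have hτ : τ₀ ≫ T.hom = Spec.map mkI ≫ p := by
    show (Spec.map _ ≫ V.2.fromSpec) ≫ T.hom = _
    rw [Category.assoc, ← IsAffineOpen.SpecMap_appLE_fromSpec T.hom U.2 V.2 e, ← Category.assoc, ← Spec.map_comp,
      ← Category.assoc (Spec.map mkI), ← Spec.map_comp]
    exact congrArg (fun r => Spec.map r ≫ U.2.fromSpec) (CommRingCat.hom_ext L.comp_algebraMap)
  let adj := Over.mapPullbackAdj p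
  let Z₀ : Over (Spec (CommRingCat.of C)) := SqLift.S₀ I
  let t₀ : (Over.map p).obj Z₀ ⟶ T := Over.homMk τ₀ hτ
  let g₀ : Z₀ ⟶ Red.bc p X := adj.homEquiv Z₀ X (t₀ ≫ j)
  haveI : Smooth (Red.bc p X).hom := inferInstanceAs (Smooth (pullback.snd X.hom p))
  haveI : IsSeparated (Red.bc p X).hom := inferInstanceAs (IsSeparated (pullback.snd X.hom p))
  obtain ⟨y, hy⟩ := ConjAvg.exists_lift_nilpotent ⟨2, hI⟩ g₀
  obtain ⟨g, hg1, hg⟩ := exists_fixed hI (Transporter.locally_bc p hH) (a.bc p) y (fun D _ _ hD h => by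
    have hy' : toUnit (sp C D) ≫ y = adj.homEquiv (sp C D) X ((Over.map p).map (SqLift.toS₀ D hD) ≫ t₀ ≫ j) := by
      rw [toUnit_unique (toUnit (sp C D)) (SqLift.toS₀ D hD ≫ toUnit _), Category.assoc, hy,
        adj.homEquiv_naturality_left]
    obtain ⟨h₀, rfl⟩ := (adj.homEquiv _ H).surjective h
    rw [hy', AlgGrp.Action.lift_homEquiv_bc_act]
    exact congrArg _ ((hT _ (t₀ ≫ j)).1 ⟨t₀, rfl⟩ _ ((Over.map p).map (SqLift.toS₀ D hD)) h₀))
  replace hg1 : toUnit Z₀ ≫ g = g₀ := hg1.trans hy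
  let Y₁ : Over S := (Over.map p).obj (𝟙_ (Over (Spec (CommRingCat.of C))))
  let g' : Y₁ ⟶ X := (adj.homEquiv _ X).symm g
  obtain ⟨t, ht⟩ := (hT Y₁ g').2 fun X' x h => by
    let X₂ : Over (Spec (CommRingCat.of C)) := Over.mk x.left
    let ε : (Over.map p).obj X₂ ⟶ X' := Over.homMk (𝟙 _) (by
      show 𝟙 _ ≫ X'.hom = x.left ≫ p
      rw [Category.id_comp, ← Over.w x]
      exact congrArg (x.left ≫ ·) (Category.id_comp p))
    haveI : IsIso ((Over.forget _).map ε) := inferInstanceAs (IsIso (𝟙 _))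
    haveI : IsIso ε := isIso_of_reflects_iso _ (Over.forget _)
    have e' : ε ≫ x = (Over.map p).map (toUnit X₂) := by
      refine Over.OverMorphism.ext ?_
      have ht : (toUnit X₂).left = X₂.hom := (Category.comp_id _).symm.trans (Over.w (toUnit _))
      show 𝟙 _ ≫ x.left = (toUnit X₂).left
      rw [ht, Category.id_comp]
      rfl
    rw [← cancel_epi ε, comp_lift_assoc, ← Category.assoc ε x g', e']
    refine (adj.homEquiv X₂ X).injective ?_
    rw [← AlgGrp.Action.lift_homEquiv_bc_act, adj.homEquiv_naturality_left, Equiv.apply_symm_apply]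
    exact hg X₂ _
  have hres : Spec.map mkI ≫ t.left = τ₀ := by
    rw [← cancel_mono j.left, Category.assoc, show t.left ≫ j.left = g'.left from congrArg CommaMorphism.left ht]
    have h1 : (Over.map p).map (toUnit Z₀) ≫ g' = t₀ ≫ j := by
      rw [← adj.homEquiv_naturality_left_symm, hg1]
      exact Equiv.symm_apply_apply _ _
    have h2 := congrArg CommaMorphism.left h1
    have ht : (toUnit Z₀).left = Spec.map mkI := (Category.comp_id _).symm.trans (Over.w (toUnit Z₀))
    refine Eq.trans ?_ h2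
    show _ = (toUnit Z₀).left ≫ g'.left
    rw [ht]
  have hrange : Set.range t.left ⊆ Set.range V.2.fromSpec := by
    rintro _ ⟨c, rfl⟩
    obtain ⟨c', hc'⟩ : c ∈ Set.range (PrimeSpectrum.comap (Ideal.Quotient.mk I)) := by
      refine (Set.ext_iff.1 (range_comap_of_surjective _ _ Ideal.Quotient.mk_surjective) c).2
        ((PrimeSpectrum.mem_zeroLocus _ _).2 fun a ha => ?_)
      rw [SetLike.mem_coe, Ideal.mk_ker] at ha
      have : a ^ 2 ∈ (⊥ : Ideal C) := hI ▸ Ideal.pow_mem_pow ha 2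
      exact c.isPrime.mem_of_pow_mem 2 ((Submodule.mem_bot _).1 this ▸ zero_mem _)
    refine ⟨Spec.map (CommRingCat.ofHom L.toRingHom) c', ?_⟩
    rw [← hc']
    show τ₀ c' = (Spec.map mkI ≫ t.left) c'
    rw [hres]
  let l := IsOpenImmersion.lift V.2.fromSpec t.left hrange
  have hl : l ≫ V.2.fromSpec = t.left := IsOpenImmersion.lift_fac _ _ _
  obtain ⟨ψ, hψ⟩ : ∃ ψ : Γ(T.left, V.1) ⟶ CommRingCat.of C, Spec.map ψ = l := Spec.map_surjective l
  have hw : t.left ≫ T.hom = p := by
    have := Over.w t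
    exact this.trans (Category.id_comp p)
  have halg : φ ≫ ψ = CommRingCat.ofHom (algebraMap Γ(S, U.1) C) := by
    apply Spec.map_injective
    rw [← cancel_mono U.2.fromSpec, Spec.map_comp, Category.assoc,
      show Spec.map φ ≫ U.2.fromSpec = V.2.fromSpec ≫ T.hom from
        IsAffineOpen.SpecMap_appLE_fromSpec T.hom U.2 V.2 e, ← Category.assoc, hψ, hl, hw]
  let Ψ : Γ(T.left, V.1) →ₐ[Γ(S, U.1)] C :=
    { ψ.hom with commutes' := fun r => ConcreteCategory.congr_hom halg r }
  refine ⟨Ψ, AlgHom.ext fun b => ?_⟩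
  have h3 : ψ ≫ mkI = CommRingCat.ofHom L.toRingHom := by
    apply Spec.map_injective
    rw [← cancel_mono V.2.fromSpec, Spec.map_comp, Category.assoc, hψ, hl, hres]
  exact ConcreteCategory.congr_hom h3 b

end Groth.Agent.FixAvg
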